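import Groth.Prelude.Def_AGF
import Groth.Prelude.Def_Magnet
import Groth.Agent.S8014
import Groth.Agent.Lib.Desc.Over
import Groth.Agent.Lib.H12.FlatComp
import Groth.Agent.Lib.AlgGrpBasic19.Basic
import Groth.Agent.Lib.GrassAct21.QuotAffine
import Groth.Agent.Lib.SpecialTorsor21.Birational

/-!
# Quotients of a product by a diagonal subgroup are torsors
-/

set_option autoImplicit false
set_option linter.style.haveILetI false
set_option backward.isDefEq.respectTransparency.types false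
universe u

open CategoryTheory Limits MonoidalCategory CartesianMonoidalCategory MonObj AlgebraicGeometry

noncomputable section

namespace Groth.Agent.SpecialTorsor21

/-- An action composed with a homomorphism. -/
def restrictAction {S : Scheme.{u}} {K P X : Over S} [GrpObj K] [GrpObj P] (j : K ⟶ P) [IsMonHom j]
    (a : AlgGrp.Action P X) : AlgGrp.Action K X where
  act := (j ▷ X) ≫ a.act
  one_act := by
    rw [← MonoidalCategory.comp_whiskerRight_assoc, IsMonHom.one_hom, a.one_act]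
  mul_act := by
    refine Magnet.hom_ext_lift₃ fun T p q r => ?_
    simp only [lift_whiskerRight_assoc, lift_lift_associator_hom_assoc, lift_whiskerLeft_assoc,
      MonoidalCategory.whiskerLeft_comp, Category.assoc]
    rw [← Category.assoc _ μ[K], ← Hom.mul_def]
    simp only [MonObj.mul_comp]
    rw [AlgGrpBasic19.act_mul]

variable {k : Type u} [Field k]

set_option maxHeartbeats 1000000 in
/-- Local triviality of a torsor gives a birational product decomposition. -/
theorem birationalOver_of_section {K X Q : Over (Spec (CommRingCat.of k))} [GrpObj K]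
    [LocallyOfFiniteType K.hom] [LocallyOfFiniteType Q.hom] [IrreducibleSpace Q.left]
    (b : AlgGrp.Action K X) (π : X ⟶ Q) (hπo : IsOpenMap π.left) (hsq : IsPullback b.act (snd K X) π π)
    (W : Q.left.Opens) (hW : (W : Set Q.left).Nonempty) (s : (W : Scheme.{u}) ⟶ X.left) (hs : s ≫ π.left = W.ι) :
    Scheme.BirationalOver X.hom (K ⊗ Q).hom := by
  let Wo : Over (Spec (CommRingCat.of k)) := Over.mk (W.ι ≫ Q.hom)
  let w : Wo ⟶ Q := Over.homMk W.ι rfl
  let sO : Wo ⟶ X := Over.homMk s (by rw [← Over.w π, reassoc_of% hs]; rfl)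
  have hsO : sO ≫ π = w := Over.OverMorphism.ext hs
  haveI : IsOpenImmersion w.left := inferInstanceAs (IsOpenImmersion W.ι)
  haveI : IsOpenImmersion ((Over.forget _).map w) := inferInstanceAs (IsOpenImmersion W.ι)
  haveI : Mono w := Over.mono_of_mono_left w
  have hWd : DenseRange w.left := by
    show Dense (Set.range W.ι)
    rw [Scheme.Opens.range_ι]
    exact W.isOpen.dense hW
  let Θ : K ⊗ Wo ⟶ X := (K ◁ sO) ≫ b.act
  have hΘ : Θ ≫ π = snd K Wo ≫ w := by
    rw [Category.assoc, hsq.w, ← Category.assoc, whiskerLeft_snd, Category.assoc, hsO]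
  have hw : ∀ c : PullbackCone π w, c.fst ≫ π = (c.snd ≫ sO) ≫ π := fun c => by
    rw [Category.assoc, hsO]; exact c.condition
  have hpb : IsPullback Θ (snd K Wo) π w := by
    refine IsPullback.of_isLimit' ⟨hΘ⟩ (PullbackCone.IsLimit.mk hΘ
      (fun c => lift (hsq.lift c.fst (c.snd ≫ sO) (hw c) ≫ fst K X) c.snd) (fun c => ?_)
      (fun c => lift_snd _ _) (fun c m h1 h2 => ?_))
    · conv_rhs => rw [← hsq.lift_fst c.fst (c.snd ≫ sO) (hw c)]
      rw [lift_whiskerLeft_assoc]
      conv_lhs => arg 1; arg 2; rw [← hsq.lift_snd c.fst (c.snd ≫ sO) (hw c)]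
      rw [← comp_lift, lift_fst_snd, Category.comp_id]
    · have he : lift (m ≫ fst K Wo) (c.snd ≫ sO) = hsq.lift c.fst (c.snd ≫ sO) (hw c) := by
        refine hsq.hom_ext ?_ ?_
        · rw [hsq.lift_fst, ← h1, ← h2, Category.assoc, ← comp_lift_assoc]
          congr 1
        · rw [hsq.lift_snd, lift_snd]
      refine CartesianMonoidalCategory.hom_ext _ _ ?_ ?_
      · rw [lift_fst, ← he, lift_fst]
      · rw [lift_snd, h2]
  have h1 := birationalOver_of_isPullback (hpb.map (Over.forget _)) hπo hWd X.hom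
  have hpb2 : IsPullback (K ◁ w).left (snd K Wo).left (snd K Q).left w.left := by
    refine (IsPullback.of_bot (v₂₁ := (fst K Q).left) (v₂₂ := Q.hom) (h₃₁ := K.hom) ?_
      (by show _ = (K ◁ w).left ≫ (snd K Q).left
          rw [← Over.comp_left, ← Over.comp_left, whiskerLeft_snd]) (IsPullback.of_hasPullback K.hom Q.hom).flip).flip
    rw [← Over.comp_left, whiskerLeft_fst, Over.w w]
    exact (IsPullback.of_hasPullback K.hom Wo.hom).flip
  have h2 := birationalOver_of_isPullback hpb2 (isOpenMap_snd K.hom Q.hom) hWd (K ⊗ Q).hom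
  rw [Over.w] at h2
  exact h1.symm.trans (by rw [show ((Over.forget _).map Θ) ≫ X.hom = (K ⊗ Wo).hom from Over.w Θ]; exact h2)

set_option maxHeartbeats 1600000 in
/-- A quotient of a product by a subgroup embedded diagonally is a torsor over each partial quotient. -/
theorem birationalOver_quotient {G P G₁ G₂ Q₁ X : Over (Spec (CommRingCat.of k))} [GrpObj G] [GrpObj P] [GrpObj G₁]
    [GrpObj G₂] [LocallyOfFiniteType G.hom] [QuasiCompact G.hom] [LocallyOfFiniteType P.hom] [QuasiCompact P.hom]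
    [LocallyOfFiniteType G₁.hom] [QuasiCompact G₁.hom] [LocallyOfFiniteType G₂.hom] [IrreducibleSpace G₁.left]
    (p₁ : P ⟶ G₁) (p₂ : P ⟶ G₂) [IsMonHom p₁] [IsMonHom p₂]
    (hext : ∀ {T : Over (Spec (CommRingCat.of k))} {x y : T ⟶ P}, x ≫ p₁ = y ≫ p₁ → x ≫ p₂ = y ≫ p₂ → x = y)
    (hmk : ∀ {T : Over (Spec (CommRingCat.of k))} (x : T ⟶ G₁) (y : T ⟶ G₂), ∃ z : T ⟶ P, z ≫ p₁ = x ∧ z ≫ p₂ = y)
    [Flat p₁.left] [Surjective p₁.left]
    (i : G ⟶ P) [IsMonHom i] [IsClosedImmersion i.left] (i₁ : G ⟶ G₁) [IsMonHom i₁] [Mono i₁] (hi : i ≫ p₁ = i₁)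
    (a : AlgGrp.Action P X) (o : 𝟙_ (Over (Spec (CommRingCat.of k))) ⟶ X) (hX : AGF.IsQuotient i X a o)
    [QuasiCompact X.hom]
    (a₁ : AlgGrp.Action G₁ Q₁) (o₁ : 𝟙_ (Over (Spec (CommRingCat.of k))) ⟶ Q₁) (hQ : AGF.IsQuotient i₁ Q₁ a₁ o₁)
    (hsp : ∀ (X' Y' : Over (Spec (CommRingCat.of k))) (b : AlgGrp.Action G₂ X') (p : X' ⟶ Y'),
      LocallyOfFiniteType X'.hom → QuasiCompact X'.hom → LocallyOfFiniteType Y'.hom → QuasiCompact Y'.hom →
      Flat p.left → Surjective p.left → IsPullback b.act.left (snd G₂ X').left p.left p.left →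
      ∀ y : ↥Y'.left, ∃ (W : Y'.left.Opens) (s : (W : Scheme.{u}) ⟶ X'.left), y ∈ W ∧ s ≫ p.left = W.ι) :
    Scheme.BirationalOver X.hom (G₂ ⊗ Q₁).hom := by
  haveI := hX.1
  haveI := hQ.1
  haveI : Surjective (a₁.orbitMap o₁).left := hQ.2.2.1
  haveI : Flat (a₁.orbitMap o₁).left := hQ.2.1
  haveI : Surjective (a.orbitMap o).left := hX.2.2.1
  haveI : Flat (a.orbitMap o).left := hX.2.1
  have hQirr : IrreducibleSpace Q₁.left := by
    refine (irreducibleSpace_def _).2 ?_
    show IsIrreducible Set.univ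
    rw [← (a₁.orbitMap o₁).left.surjective.range_eq, ← Set.image_univ]
    exact (IrreducibleSpace.isIrreducible_univ _).image _ (a₁.orbitMap o₁).left.continuous.continuousOn
  haveI : CompactSpace G₁.left := QuasiCompact.compactSpace_of_compactSpace G₁.hom
  haveI : QuasiCompact Q₁.hom := (quasiCompact_iff_compactSpace _).2 ⟨by
    rw [← (a₁.orbitMap o₁).left.surjective.range_eq]
    exact isCompact_range (a₁.orbitMap o₁).left.continuous⟩
  -- the projection
  let a' : AlgGrp.Action P Q₁ := restrictAction p₁ a₁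
  have ha' : ∀ {T : Over (Spec (CommRingCat.of k))} (x : T ⟶ P) (q : T ⟶ Q₁),
      lift x q ≫ a'.act = lift (x ≫ p₁) q ≫ a₁.act := fun x q => lift_whiskerRight_assoc _ _ _ _
  have hfix₁ : i₁ ≫ a₁.orbitMap o₁ = toUnit G ≫ o₁ := by
    have h := congrArg (fun t => lift (1 : G ⟶ G₁) (𝟙 G) ≫ t) hQ.2.2.2.w
    simp only [lift_fst_assoc] at h
    rw [← Category.assoc, show lift (1 : G ⟶ G₁) (𝟙 G) ≫ (G₁ ◁ i₁) ≫ μ[G₁] = i₁ by
      rw [lift_whiskerLeft_assoc, Category.id_comp, ← Hom.mul_def, _root_.one_mul]] at h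
    rw [← h, AlgGrp.Action.comp_orbitMap]
    exact AlgGrpBasic19.act_one a₁ _
  obtain ⟨π, ⟨hπe, hπo⟩, -⟩ := Groth.Agent.S8014.result k P G i X a o hX Q₁ a' o₁ (fun T h => by
    rw [ha', Category.assoc, hi, ← AlgGrp.Action.comp_orbitMap, Category.assoc, hfix₁, ← Category.assoc,
      toUnit_unique (h ≫ toUnit G) (toUnit T)])
  have horb : a'.orbitMap o₁ = p₁ ≫ a₁.orbitMap o₁ := by
    rw [AlgGrp.Action.comp_orbitMap]
    show lift (𝟙 P) (toUnit P ≫ o₁) ≫ a'.act = _
    rw [ha', Category.id_comp]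
  have hfs : Flat π.left ∧ Surjective π.left := by
    have he : (a.orbitMap o).left ≫ π.left = p₁.left ≫ (a₁.orbitMap o₁).left := by
      rw [← Over.comp_left, hπo, horb, Over.comp_left]
    haveI : Flat ((a.orbitMap o).left ≫ π.left) := by rw [he]; infer_instance
    haveI : Surjective ((a.orbitMap o).left ≫ π.left) := by rw [he]; infer_instance
    exact ⟨H12.flat_of_comp_of_surjective (a.orbitMap o).left π.left, Surjective.of_comp (a.orbitMap o).left π.left⟩
  -- the action of the second factor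
  obtain ⟨j, hj₁, hj₂⟩ := hmk (1 : G₂ ⟶ G₁) (𝟙 G₂)
  haveI : IsMonHom j := by
    refine Desc.isMonHom_of_points j (fun T => hext ?_ ?_) fun T x y => hext ?_ ?_
    · rw [Category.assoc, hj₁, MonObj.comp_one, MonObj.one_comp]
    · rw [Category.assoc, hj₂, Category.comp_id, MonObj.one_comp]
    · rw [Category.assoc, hj₁, MonObj.comp_one, MonObj.mul_comp, Category.assoc, Category.assoc, hj₁,
        MonObj.comp_one, MonObj.comp_one, _root_.one_mul]
    · rw [Category.assoc, hj₂, Category.comp_id, MonObj.mul_comp, Category.assoc, Category.assoc, hj₂,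
        Category.comp_id, Category.comp_id]
  let b : AlgGrp.Action G₂ X := restrictAction j a
  have hb : ∀ {T : Over (Spec (CommRingCat.of k))} (g : T ⟶ G₂) (x : T ⟶ X),
      lift g x ≫ b.act = lift (g ≫ j) x ≫ a.act := fun g x => lift_whiskerRight_assoc _ _ _ _
  have hact : ∀ {T : Over (Spec (CommRingCat.of k))} (g : T ⟶ G₂) (z : T ⟶ P),
      lift g (z ≫ a.orbitMap o) ≫ b.act = ((g ≫ j) * z) ≫ a.orbitMap o := fun {T} g z => by
    rw [hb, AlgGrp.Action.comp_orbitMap, AlgGrp.Action.comp_orbitMap, AlgGrp.Action.lift_mul_act]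
  have hbπ : b.act ≫ π = snd G₂ X ≫ π := by
    refine Magnet.hom_ext_lift₂ fun T g x => ?_
    have h := congrArg (fun t => lift (g ≫ j) x ≫ t) hπe
    simp only [lift_whiskerLeft_assoc] at h
    rw [reassoc_of% (hb g x), lift_snd_assoc, ← h, ha', Category.assoc, hj₁, MonObj.comp_one]
    exact AlgGrpBasic19.act_one a₁ _
  have hcov : Desc.IsCover (a.orbitMap o) := Desc.isCover_of_lft _
  have hrel : ∀ {T : Over (Spec (CommRingCat.of k))} (u v : T ⟶ P), u ≫ a.orbitMap o = v ≫ a.orbitMap o →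
      ∃ h : T ⟶ G, v = u * (h ≫ i) := fun {T} u v e => by
    refine ⟨hX.2.2.2.lift u v e ≫ snd P G, ?_⟩
    have h2 := hX.2.2.2.lift_snd u v e
    have h3 : (P ◁ i) ≫ μ[P] = fst P G * (snd P G ≫ i) := by rw [Hom.mul_def]; congr 1
    have h4 := h2.symm.trans (congrArg (hX.2.2.2.lift u v e ≫ ·) h3)
    simp only [MonObj.comp_mul] at h4
    rw [hX.2.2.2.lift_fst u v e, ← Category.assoc] at h4
    exact h4
  have hrel₁ : ∀ {T : Over (Spec (CommRingCat.of k))} (u v : T ⟶ G₁), u ≫ a₁.orbitMap o₁ = v ≫ a₁.orbitMap o₁ →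
      ∃ h : T ⟶ G, v = u * (h ≫ i₁) := fun {T} u v e => by
    refine ⟨hQ.2.2.2.lift u v e ≫ snd G₁ G, ?_⟩
    have h2 := hQ.2.2.2.lift_snd u v e
    have h3 : (G₁ ◁ i₁) ≫ μ[G₁] = fst G₁ G * (snd G₁ G ≫ i₁) := by rw [Hom.mul_def]; congr 1
    have h4 := h2.symm.trans (congrArg (hQ.2.2.2.lift u v e ≫ ·) h3)
    simp only [MonObj.comp_mul] at h4
    rw [hQ.2.2.2.lift_fst u v e, ← Category.assoc] at h4
    exact h4
  have huniq : ∀ {T : Over (Spec (CommRingCat.of k))} (g g' : T ⟶ G₂) (x : T ⟶ X),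
      lift g x ≫ b.act = lift g' x ≫ b.act → g = g' := by
    intro T g g' x e
    obtain ⟨T', τ, u, hτ, hu⟩ := hcov.exists_lift x
    have := hτ.epi
    rw [← cancel_epi τ]
    have e' : ((τ ≫ g) ≫ j * u) ≫ a.orbitMap o = ((τ ≫ g') ≫ j * u) ≫ a.orbitMap o := by
      rw [← hact, ← hact, hu, ← comp_lift_assoc, ← comp_lift_assoc, e]
    obtain ⟨h, hh⟩ := hrel _ _ e'
    have h1 := congrArg (· ≫ p₁) hh
    simp only [MonObj.mul_comp, Category.assoc, hj₁, MonObj.comp_one, _root_.one_mul, hi] at h1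
    have h0 : h = 1 := by
      rw [← cancel_mono i₁, MonObj.one_comp]
      exact left_eq_mul.1 h1 |>.trans rfl
    rw [h0, MonObj.one_comp, _root_.mul_one] at hh
    have h2 := congrArg (· ≫ p₂) (mul_right_cancel hh)
    simpa only [Category.assoc, hj₂, Category.comp_id] using h2.symm
  have hex : ∀ {T : Over (Spec (CommRingCat.of k))} (x y : T ⟶ X), x ≫ π = y ≫ π →
      ∃ g : T ⟶ G₂, lift g y ≫ b.act = x := by
    intro T x y e
    obtain ⟨T', τ, u, v, hτ, hu, hv⟩ := hcov.exists_lift₂ x y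
    have e1 : (v ≫ p₁) ≫ a₁.orbitMap o₁ = (u ≫ p₁) ≫ a₁.orbitMap o₁ := by
      rw [Category.assoc, ← horb, ← hπo, reassoc_of% hv, Category.assoc, ← horb, ← hπo, reassoc_of% hu, e]
    obtain ⟨h, hh⟩ := hrel₁ _ _ e1
    let g' : T' ⟶ G₂ := (u * (h ≫ i)⁻¹ * v⁻¹) ≫ p₂
    have key : (g' ≫ j) * (v * (h ≫ i)) = u := by
      refine hext ?_ ?_
      · simp only [MonObj.mul_comp, Category.assoc, hj₁, MonObj.comp_one, _root_.one_mul, hi, hh]
      · simp only [g', MonObj.mul_comp, GrpObj.inv_comp, Category.assoc, hj₂, Category.comp_id]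
        group
    have hstab : ∀ A : T' ⟶ P, (A * (h ≫ i)) ≫ a.orbitMap o = A ≫ a.orbitMap o := fun A => by
      have hf := congrArg (fun t => lift (1 : G ⟶ P) (𝟙 G) ≫ t) hX.2.2.2.w
      simp only [lift_fst_assoc] at hf
      rw [← Category.assoc, show lift (1 : G ⟶ P) (𝟙 G) ≫ (P ◁ i) ≫ μ[P] = i by
        rw [lift_whiskerLeft_assoc, Category.id_comp, ← Hom.mul_def, _root_.one_mul]] at hf
      rw [AlgGrp.Action.comp_orbitMap, AlgGrp.Action.comp_orbitMap, AlgGrp.Action.lift_mul_act,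
        ← AlgGrp.Action.comp_orbitMap a (h ≫ i) o, Category.assoc, ← hf, AlgGrp.Action.comp_orbitMap,
        AlgGrpBasic19.act_one, ← Category.assoc, toUnit_unique (h ≫ toUnit G) (toUnit T')]
    have hg' : lift g' (τ ≫ y) ≫ b.act = τ ≫ x := by
      rw [← hu, ← hv, hact]
      conv_rhs => rw [← key, ← _root_.mul_assoc]
      rw [hstab]
    obtain ⟨g, hg, -⟩ := hτ.descend g' fun T'' c d ecd => by
      refine huniq _ _ (c ≫ τ ≫ y) ?_
      conv_rhs => rw [reassoc_of% ecd]
      rw [← comp_lift_assoc, ← comp_lift_assoc, hg', reassoc_of% ecd]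
    refine ⟨g, ?_⟩
    have := hτ.epi
    rw [← cancel_epi τ, comp_lift_assoc, hg, hg']
  choose gg hgg using @hex
  have hsq : IsPullback b.act (snd G₂ X) π π := by
    refine IsPullback.of_isLimit' ⟨hbπ⟩ (PullbackCone.IsLimit.mk hbπ
      (fun c => lift (gg c.fst c.snd c.condition) c.snd) (fun c => hgg c.fst c.snd c.condition)
      (fun c => lift_snd _ _) (fun c m h1 h2 => ?_))
    refine CartesianMonoidalCategory.hom_ext _ _ ?_ (by rw [lift_snd, h2])
    rw [lift_fst]
    refine huniq _ _ c.snd ?_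
    rw [hgg, ← h1]
    congr 1
    exact CartesianMonoidalCategory.hom_ext _ _ (by simp) (by simp [h2])
  haveI := hfs.1
  haveI := hfs.2
  haveI : LocallyOfFiniteType π.left := AlgGrpBasic19.lft_left π
  haveI : IsLocallyNoetherian Q₁.left := LocallyOfFiniteType.isLocallyNoetherian Q₁.hom
  haveI : LocallyOfFinitePresentation π.left := inferInstance
  obtain ⟨W, s, hW, hs⟩ := hsp X Q₁ b π inferInstance inferInstance inferInstance inferInstance hfs.1 hfs.2
    (hsq.map (Over.forget _)) (Classical.arbitrary _)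
  exact birationalOver_of_section b π π.left.isOpenMap hsq W ⟨_, hW⟩ s hs

end Groth.Agent.SpecialTorsor21
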